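import Groth.Agent.L05.SepNode.Local
import Groth.Agent.L19.IdealInvertible
import Groth.Agent.L22.LocalDim

/-!
# The endomorphism of the ideal of a separating node
-/

set_option autoImplicit false
set_option backward.isDefEq.respectTransparency false
set_option linter.style.haveILetI false
set_option linter.unusedSectionVars false

universe u

open CategoryTheory CategoryTheory.Limits AlgebraicGeometry TopologicalSpace Opposite IsLocalRing
open Groth.L22

noncomputable section

namespace Groth.L05.SepNode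

variable {X : Scheme.{u}} {P : X}

/-- Restriction of functions. -/
abbrev res {V W : X.Opens} (h : W ≤ V) (a : Γ(X, V)) : Γ(X, W) := (X.presheaf.map (homOfLE h).op).hom a

theorem res_res {V W Z : X.Opens} (h : W ≤ V) (h' : Z ≤ W) (a : Γ(X, V)) :
    res h' (res h a) = res (h'.trans h) a := by
  rw [res, res, res, ← CommRingCat.comp_apply, ← Functor.map_comp]
  rfl

theorem germ_res {V W : X.Opens} (h : W ≤ V) {x : X} (hx : x ∈ W) (a : Γ(X, V)) :
    X.presheaf.germ W x hx (res h a) = X.presheaf.germ V x (h hx) a :=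
  X.presheaf.germ_res_apply _ _ _ a

/-- The complement of a closed point. -/
abbrev off (hP : IsClosed ({P} : Set X)) : X.Opens := ⟨({P} : Set X)ᶜ, hP.isOpen_compl⟩

theorem exists_nzd_mem [IsReduced X] (hδ : Curv2.deltaInv (X.presheaf.stalk P) = 1) :
    ∃ a ∈ maximalIdeal (X.presheaf.stalk P), a ∈ nonZeroDivisors (X.presheaf.stalk P) := by
  by_contra hcon
  push Not at hcon
  have hz : Curv2.deltaInv (X.presheaf.stalk P) = 0 := by
    rw [Curv2.deltaInv, Module.length_eq_zero_iff, Submodule.Quotient.subsingleton_iff]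
    refine eq_top_iff.2 fun z _ => ?_
    obtain ⟨⟨a, b⟩, hab⟩ := IsLocalization.surj (nonZeroDivisors (X.presheaf.stalk P)) (z : FractionRing (X.presheaf.stalk P))
    obtain ⟨v, hv⟩ : IsUnit (b : X.presheaf.stalk P) := notMem_maximalIdeal.1 fun h => hcon _ h b.2
    refine ⟨(↑v⁻¹ : X.presheaf.stalk P) * a, Subtype.ext ?_⟩
    show algebraMap _ (FractionRing (X.presheaf.stalk P)) ((↑v⁻¹ : X.presheaf.stalk P) * a) = z.1
    rw [map_mul, ← hab, mul_comm z.1, ← mul_assoc, ← map_mul, ← hv, Units.inv_mul, map_one, one_mul]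
  rw [hz] at hδ
  exact zero_ne_one hδ

/-- An affine neighbourhood of `P` with a regular function cutting out `P` exactly. -/
theorem exists_chart [IsReduced X] [AlgebraicGeometry.IsNoetherian X] (hP : IsClosed ({P} : Set X))
    (hδ : Curv2.deltaInv (X.presheaf.stalk P) = 1) (hd : ringKrullDim (X.presheaf.stalk P) = 1)
    {W : X.Opens} (hPW : P ∈ W) :
    ∃ (B : X.Opens) (_ : IsAffineOpen B) (hPB : P ∈ B) (t : Γ(X, B)), B ≤ W ∧
      X.presheaf.germ B P hPB t ∈ nonZeroDivisors (X.presheaf.stalk P) ∧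
      ∀ z ∈ B, z ∈ X.basicOpen t ↔ z ≠ P := by
  obtain ⟨B, hB, hPB, hBW⟩ := exists_isAffineOpen_mem_and_subset (x := P) (U := W) hPW
  letI := X.presheaf.algebra_section_stalk ⟨P, hPB⟩
  haveI := hB.isLocalization_stalk ⟨P, hPB⟩
  set p := (hB.primeIdealOf ⟨P, hPB⟩).asIdeal
  obtain ⟨a, ham, ha⟩ := exists_nzd_mem (P := P) hδ
  obtain ⟨⟨t, s⟩, hts⟩ := IsLocalization.surj p.primeCompl a
  have hu := IsLocalization.map_units (X.presheaf.stalk P) s
  have htn : algebraMap Γ(X, B) (X.presheaf.stalk P) t ∈ nonZeroDivisors (X.presheaf.stalk P) :=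
    hts ▸ mul_mem ha hu.mem_nonZeroDivisors
  have htm : algebraMap Γ(X, B) (X.presheaf.stalk P) t ∈ maximalIdeal (X.presheaf.stalk P) :=
    hts ▸ Ideal.mul_mem_right _ _ ham
  have hPt : P ∉ X.basicOpen t := fun h => (mem_maximalIdeal _).1 htm ((X.mem_basicOpen t P hPB).1 h)
  let F : Set X := ((X.basicOpen t : X.Opens) : Set X)ᶜ
  have hF : IsClosed F := (X.basicOpen t).2.isClosed_compl
  haveI : Ring.KrullDimLE 1 (X.presheaf.stalk P) := Ring.krullDimLE_iff.2 (by rw [hd]; rfl)
  have hmax : ∀ y ∈ F, y ⤳ P → y = P := by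
    intro y hy hyP
    by_contra hne
    have hyB : y ∈ B := hyP.mem_open B.2 hPB
    set q := (hB.primeIdealOf ⟨y, hyB⟩).asIdeal
    have htq : t ∈ q := by
      by_contra h
      exact hy ((LocalDim.mem_basicOpen_iff hB hyB t).2 h)
    have hqp : q ≤ p := by
      refine (PrimeSpectrum.le_iff_specializes (hB.primeIdealOf ⟨y, hyB⟩) (hB.primeIdealOf ⟨P, hPB⟩)).2 ?_
      refine (hB.fromSpec.isOpenEmbedding.isInducing.specializes_iff).1 ?_
      rw [hB.fromSpec_primeIdealOf, hB.fromSpec_primeIdealOf]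
      exact hyP
    have hdisj : Disjoint (p.primeCompl : Set Γ(X, B)) (q : Set Γ(X, B)) :=
      Set.disjoint_left.2 fun z hz hzq => hz (hqp hzq)
    have hQ := IsLocalization.isPrime_of_isPrime_disjoint p.primeCompl (X.presheaf.stalk P) q inferInstance hdisj
    have hcm := IsLocalization.comap_map_of_isPrime_disjoint p.primeCompl (X.presheaf.stalk P)
      (inferInstance : q.IsPrime) hdisj
    rcases Ring.krullDimLE_one_iff.1 inferInstance (q.map (algebraMap Γ(X, B) (X.presheaf.stalk P))) hQ with h | h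
    · exact Set.disjoint_left.1 (Ideal.disjoint_nonZeroDivisors_of_mem_minimalPrimes h)
        (Ideal.mem_map_of_mem _ htq) htn
    · refine hne ?_
      have h1 : q = p := by
        rw [← hcm, IsLocalRing.eq_maximalIdeal h, IsLocalization.AtPrime.under_maximalIdeal (X.presheaf.stalk P) p]
      have h2 : hB.primeIdealOf ⟨y, hyB⟩ = hB.primeIdealOf ⟨P, hPB⟩ := PrimeSpectrum.ext h1
      have h3 := congrArg hB.fromSpec h2
      rwa [hB.fromSpec_primeIdealOf, hB.fromSpec_primeIdealOf] at h3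
  obtain ⟨S, hSf, hSc, hSi, hSF⟩ := NoetherianSpace.exists_finite_set_isClosed_irreducible hF
  let T := {t | t ∈ S ∧ P ∉ t}
  have hC : IsClosed (⋃₀ T) := by
    rw [Set.sUnion_eq_biUnion]
    exact (hSf.subset fun _ h => h.1).isClosed_biUnion fun t ht => hSc t ht.1
  have hPC : P ∉ ⋃₀ T := fun ⟨t, ht, h⟩ => ht.2 h
  obtain ⟨B', hB', hPB', hle⟩ := exists_isAffineOpen_mem_and_subset (x := P)
    (U := B ⊓ ⟨(⋃₀ T)ᶜ, hC.isOpen_compl⟩) ⟨hPB, hPC⟩
  have hB'B : B' ≤ B := fun z hz => (hle hz).1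
  refine ⟨B', hB', hPB', res hB'B t, hB'B.trans hBW, ?_, fun z hz => ?_⟩
  · rw [germ_res]; exact htn
  · rw [Scheme.mem_basicOpen X _ z hz, germ_res, ← Scheme.mem_basicOpen X t z (hB'B hz)]
    refine ⟨fun h h' => hPt (h' ▸ h), fun hne => ?_⟩
    by_contra hzt
    have hzF : z ∈ ⋃₀ S := hSF ▸ hzt
    obtain ⟨t', ht', hzt'⟩ := hzF
    by_cases hPt' : P ∈ t'
    · obtain ⟨y, hy⟩ := QuasiSober.sober (hSi t' ht') (hSc t' ht')
      have hyF : y ∈ F := hSF ▸ ⟨t', ht', hy.mem⟩
      obtain rfl := hmax y hyF (hy.specializes hPt')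
      exact hne ((hy.specializes hzt').mem_closed hP rfl)
    · exact (hle hz).2 ⟨t', ⟨ht', hPt'⟩, hzt'⟩

variable [IsReduced X] [AlgebraicGeometry.IsNoetherian X] (hP : IsClosed ({P} : Set X))
  (hδ : Curv2.deltaInv (X.presheaf.stalk P) = 1) (hd : ringKrullDim (X.presheaf.stalk P) = 1)

include hδ hd in
/-- A function is determined away from `P`. -/
theorem ext_off {W : X.Opens} {a b : Γ(X, W)}
    (h : res (inf_le_left : W ⊓ off hP ≤ W) a = res (inf_le_left : W ⊓ off hP ≤ W) b) : a = b := by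
  refine TopCat.Presheaf.section_ext X.sheaf W a b fun x hx => ?_
  change X.presheaf.germ W x hx a = X.presheaf.germ W x hx b
  by_cases hxP : x = P
  · subst hxP
    obtain ⟨B, hB, hPB, t, hBW, htn, htB⟩ := exists_chart hP hδ hd hx
    haveI := hB.isLocalization_basicOpen t
    have hDU : X.basicOpen t ≤ W ⊓ off hP := fun z hz =>
      ⟨hBW (X.basicOpen_le t hz), (htB z (X.basicOpen_le t hz)).1 hz⟩
    have h1 : algebraMap Γ(X, B) Γ(X, X.basicOpen t) (res hBW (a - b)) = 0 := by
      show res (X.basicOpen_le t) (res hBW (a - b)) = 0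
      rw [res_res, ← res_res (inf_le_left : W ⊓ off hP ≤ W) hDU]
      simp only [res, map_sub] at h ⊢
      rw [h, sub_self]
    obtain ⟨⟨_, n, rfl⟩, hn⟩ := (IsLocalization.map_eq_zero_iff (Submonoid.powers t) _ _).1 h1
    have h2 := congrArg (X.presheaf.germ B x hPB) hn
    rw [map_mul, map_zero, map_pow, germ_res] at h2
    have h3 := (mem_nonZeroDivisors_iff.1 (pow_mem htn n)).1 _ h2
    rwa [map_sub, sub_eq_zero] at h3
  · have h2 := congrArg (X.presheaf.germ (W ⊓ off hP) x ⟨hx, hxP⟩) h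
    rwa [germ_res, germ_res] at h2

include hδ hd in
/-- An idempotent away from `P` multiplies functions vanishing at `P` to functions vanishing at `P`. -/
theorem exists_extension (e : Γ(X, off hP)) (he : e * e = e) {W : X.Opens} (f : Γ(X, W))
    (hf : P ∉ X.basicOpen f) :
    ∃ g : Γ(X, W), P ∉ X.basicOpen g ∧
      res (inf_le_left : W ⊓ off hP ≤ W) g = res (inf_le_right : W ⊓ off hP ≤ off hP) e * res inf_le_left f := by
  by_cases hPW : P ∈ W
  swap
  · have hWU : W ≤ off hP := fun z hz h => hPW ((Set.mem_singleton_iff.1 h) ▸ hz)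
    refine ⟨res hWU e * f, fun h => hPW (X.basicOpen_le _ h), ?_⟩
    rw [res, map_mul]
    exact congrArg (· * _) (res_res _ _ _)
  obtain ⟨B, hB, hPB, t, hBW, htn, htB⟩ := exists_chart hP hδ hd hPW
  haveI := hB.isLocalization_basicOpen t
  have hDU : X.basicOpen t ≤ off hP := fun z hz => (htB z (X.basicOpen_le t hz)).1 hz
  obtain ⟨n, c, hc⟩ := IsLocalization.Away.surj t (res hDU e)
  have he' : res hDU e * res hDU e = res hDU e := by rw [← map_mul, he]
  have hcc : algebraMap Γ(X, B) Γ(X, X.basicOpen t) (c * c) = algebraMap Γ(X, B) Γ(X, X.basicOpen t) (c * t ^ n) := by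
    rw [map_mul, map_mul, map_pow, ← hc, mul_mul_mul_comm, he']
    ring
  obtain ⟨⟨_, m, rfl⟩, hm⟩ := (IsLocalization.eq_iff_exists (Submonoid.powers t) _).1 hcc
  set G := X.presheaf.germ B P hPB
  have hm' : G c * G c = G c * G t ^ n := by
    have := congrArg G hm
    simp only [map_mul, map_pow] at this
    exact (mul_cancel_left_mem_nonZeroDivisors (pow_mem htn m)).1 this
  have hfm : X.presheaf.germ W P hPW f ∈ maximalIdeal _ :=
    (mem_maximalIdeal _).2 fun h => hf ((X.mem_basicOpen f P hPW).2 h)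
  obtain ⟨g₀, hg₀m, hg₀⟩ := exists_mul_eq hδ (pow_mem htn n) hm' hfm
  obtain ⟨V, hPV, g₁, hg₁⟩ := X.presheaf.exists_germ_eq g₀
  have h3 : X.presheaf.germ (B ⊓ V) P ⟨hPB, hPV⟩ (res (inf_le_left : B ⊓ V ≤ B) c * res (inf_le_left.trans hBW) f) =
      X.presheaf.germ (B ⊓ V) P ⟨hPB, hPV⟩ (res (inf_le_left : B ⊓ V ≤ B) t ^ n * res inf_le_right g₁) := by
    simp only [map_mul, map_pow, germ_res, hg₁]
    exact hg₀
  obtain ⟨B₁, hPB₁, iU, iV, hB₁⟩ := X.presheaf.germ_eq P _ _ _ _ h3
  have hB₁B : B₁ ≤ B := iU.le.trans inf_le_left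
  have hB₁V : B₁ ≤ V := iU.le.trans inf_le_right
  have hB₁W : B₁ ≤ W := hB₁B.trans hBW
  have key : res (inf_le_left : B₁ ⊓ off hP ≤ B₁) (res hB₁V g₁) =
      res (inf_le_right : B₁ ⊓ off hP ≤ off hP) e * res (inf_le_left.trans hB₁W) f := by
    have hle : B₁ ⊓ off hP ≤ X.basicOpen t := fun z hz => (htB z (hB₁B hz.1)).2 hz.2
    have h4 := congrArg (res hle) hc
    have h5 : res (inf_le_left : B₁ ⊓ off hP ≤ B₁) (res iU.le (res (inf_le_left : B ⊓ V ≤ B) c * res (inf_le_left.trans hBW) f)) =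
        res (inf_le_left : B₁ ⊓ off hP ≤ B₁) (res iU.le (res (inf_le_left : B ⊓ V ≤ B) t ^ n * res inf_le_right g₁)) :=
      congrArg (res inf_le_left) hB₁
    change res hle (res hDU e * res (X.basicOpen_le t) t ^ n) = res hle (res (X.basicOpen_le t) c) at h4
    simp only [map_mul, map_pow, res_res] at h4 h5
    have hu : IsUnit (res (hle.trans (X.basicOpen_le t)) t) := by
      rw [← res_res (X.basicOpen_le t) hle]
      exact (RingedSpace.isUnit_res_basicOpen _ t).map _
    rw [res_res]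
    refine (hu.pow n).mul_left_cancel ?_
    rw [← h5, ← h4]
    ring
  obtain ⟨g, hg, -⟩ := TopCat.Sheaf.existsUnique_gluing' X.sheaf (fun b : Bool => if b then B₁ else W ⊓ off hP) W
    (fun b => homOfLE (by cases b <;> simp [hB₁W]))
    (fun z hz => Opens.mem_iSup.2 (by
      by_cases hzP : z = P
      · exact ⟨true, hzP ▸ hPB₁⟩
      · exact ⟨false, hz, hzP⟩))
    (fun b => match b with
      | true => res hB₁V g₁
      | false => res (inf_le_right : W ⊓ off hP ≤ off hP) e * res inf_le_left f)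
    (by
      have hsym : ∀ (hl : B₁ ⊓ (W ⊓ off hP) ≤ B₁ ⊓ off hP),
          res (inf_le_left : B₁ ⊓ (W ⊓ off hP) ≤ B₁) (res hB₁V g₁) =
          res (inf_le_right : B₁ ⊓ (W ⊓ off hP) ≤ W ⊓ off hP)
            (res (inf_le_right : W ⊓ off hP ≤ off hP) e * res inf_le_left f) := fun hl => by
        have := congrArg (res hl) key
        simp only [map_mul, res_res] at this ⊢
        exact this
      have hsym' := hsym (inf_le_inf_left _ inf_le_right)
      rintro (_ | _) (_ | _)
      · rfl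
      · refine Eq.symm ?_
        have := congrArg (res (le_inf inf_le_right inf_le_left : (W ⊓ off hP) ⊓ B₁ ≤ B₁ ⊓ (W ⊓ off hP))) hsym'
        show res (inf_le_right : (W ⊓ off hP) ⊓ B₁ ≤ B₁) (res hB₁V g₁) =
          res (inf_le_left : (W ⊓ off hP) ⊓ B₁ ≤ W ⊓ off hP)
            (res (inf_le_right : W ⊓ off hP ≤ off hP) e * res inf_le_left f)
        simp only [map_mul, res_res] at this ⊢
        exact this
      · exact hsym'
      · rfl)
  refine ⟨g, fun h => ?_, hg false⟩
  have h6 := (X.mem_basicOpen g P hPW).1 h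
  have h7 : res hB₁W g = res hB₁V g₁ := hg true
  have h8 := congrArg (X.presheaf.germ B₁ P hPB₁) h7
  rw [germ_res, germ_res, hg₁] at h8
  rw [h8] at h6
  exact (mem_maximalIdeal _).1 hg₀m h6

end Groth.L05.SepNode
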