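import Groth.Agent.L21.NormRed.Nodal

/-!
# Idempotents of the total fraction ring multiply the maximal ideal of a node into itself
-/

set_option autoImplicit false

universe u

open IsLocalRing

noncomputable section

namespace Groth.L05.SepNode

variable {A : Type u} [CommRing A] [IsLocalRing A]

theorem smul_eq_zero_of_length_one {M : Type u} [AddCommGroup M] [Module A M] (h : Module.length A M = 1)
    {a : A} (ha : a ∈ maximalIdeal A) (x : M) : a • x = 0 := by
  haveI := Module.length_eq_one_iff.1 h
  by_contra hx
  obtain ⟨⟨b, hb⟩⟩ : Nonempty {b : A // b • (a • x) = x} := by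
    obtain ⟨b, hb⟩ := IsSimpleModule.toSpanSingleton_surjective A hx x
    exact ⟨⟨b, by simpa [LinearMap.toSpanSingleton_apply] using hb⟩⟩
  have hu : IsUnit (1 - b * a) := isUnit_one_sub_self_of_mem_nonunits _ (Ideal.mul_mem_left _ b ha)
  have h0 : (1 - b * a) • x = 0 := by rw [sub_smul, one_smul, mul_smul, hb, sub_self]
  exact hx (by rw [(hu.smul_eq_zero).1 h0, smul_zero])

/-- If the normalisation has length one over `A`, then `(c / t) f ∈ m` for an idempotent `c / t` and `f ∈ m`. -/
theorem exists_mul_eq (hδ : Curv2.deltaInv A = 1) {c t : A} (ht : t ∈ nonZeroDivisors A) (hc : c * c = c * t)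
    {f : A} (hf : f ∈ maximalIdeal A) : ∃ g ∈ maximalIdeal A, c * f = t * g := by
  set e := IsLocalization.mk' (FractionRing A) c (⟨t, ht⟩ : nonZeroDivisors A) with he
  have hee : e * e = e := by
    rw [he, ← IsLocalization.mk'_mul, IsLocalization.mk'_eq_iff_eq]
    simp only [Submonoid.coe_mul]
    rw [hc]; ring_nf
  have hint : IsIntegral A e := by
    refine ⟨Polynomial.X ^ 2 - Polynomial.X, Polynomial.monic_X_pow_sub (by simp), ?_⟩
    simp [pow_two, hee]
  have h0 := smul_eq_zero_of_length_one hδ hf (Submodule.Quotient.mk (⟨e, hint⟩ : integralClosure A (FractionRing A)))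
  rw [← Submodule.Quotient.mk_smul, Submodule.Quotient.mk_eq_zero] at h0
  obtain ⟨g, hg⟩ := h0
  have hg' : algebraMap A (FractionRing A) g = algebraMap A (FractionRing A) f * e := by
    have := congrArg Subtype.val hg
    simpa [Algebra.smul_def] using this
  have heq : c * f = t * g := by
    refine IsFractionRing.injective A (FractionRing A) ?_
    rw [map_mul, map_mul, hg', he, mul_left_comm _ (algebraMap A (FractionRing A) f),
      show algebraMap A (FractionRing A) t * IsLocalization.mk' (FractionRing A) c (⟨t, ht⟩ : nonZeroDivisors A) =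
        algebraMap A (FractionRing A) c from IsLocalization.mk'_spec' (FractionRing A) c ⟨t, ht⟩, mul_comm]
  refine ⟨g, ?_, heq⟩
  by_contra hgm
  rw [mem_maximalIdeal, mem_nonunits_iff, not_not] at hgm
  have h1 : g * g = f * g := by
    refine IsFractionRing.injective A (FractionRing A) ?_
    rw [map_mul, map_mul, hg', mul_mul_mul_comm, hee, mul_assoc]
  exact (mem_maximalIdeal f).1 hf (hgm.mul_left_injective h1 ▸ hgm)

end Groth.L05.SepNode
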