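import Groth.Agent.L05.SepNode.Endo

/-!
# The ideal of a separating node is not simple
-/

set_option autoImplicit false
set_option backward.isDefEq.respectTransparency false
set_option linter.style.haveILetI false
set_option linter.unusedSectionVars false

universe u

open CategoryTheory CategoryTheory.Limits AlgebraicGeometry TopologicalSpace Opposite IsLocalRing
open Groth.L18.Frame (rs ro)
open Groth.Agent.L19.IdealInvertible (io io_rs io_smul io_inj)

noncomputable section

namespace Groth.L05.SepNode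

variable {X : Scheme.{u}} {P : X} [IsReduced X] [AlgebraicGeometry.IsNoetherian X] (hP : IsClosed ({P} : Set X))

/-- The ideal of the reduced point. -/
abbrev ptIdeal : X.IdealSheafData := Scheme.IdealSheafData.vanishingIdeal ⟨{P}, hP⟩

theorem res_add {V W : X.Opens} (h : W ≤ V) (a b : Γ(X, V)) : res h (a + b) = res h a + res h b :=
  map_add _ a b

theorem res_mul {V W : X.Opens} (h : W ≤ V) (a b : Γ(X, V)) : res h (a * b) = res h a * res h b :=
  map_mul _ a b

theorem exists_io_eq_iff {W : X.Opens} (a : Γ(X, W)) :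
    (∃ m : Γ(ClSub.idealMod (ptIdeal hP), W), io (ptIdeal hP) W m = a) ↔ P ∉ X.basicOpen a := by
  refine ((Groth.L18.IdealModule.exact_sections (ptIdeal hP) W).2 a).symm.trans ?_
  haveI : IsReduced (ptIdeal hP).subscheme := Groth.L18.isReduced_vanishingIdeal_subscheme _
  rw [← basicOpen_eq_bot_iff, ← Scheme.preimage_basicOpen]
  have hr : Set.range (ptIdeal hP).subschemeι = {P} := by
    rw [Scheme.IdealSheafData.range_subschemeι, Scheme.IdealSheafData.coe_support_vanishingIdeal]; rfl
  constructor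
  · intro h hmem
    obtain ⟨z, hz⟩ : P ∈ Set.range (ptIdeal hP).subschemeι := hr ▸ rfl
    have : z ∈ (ptIdeal hP).subschemeι ⁻¹ᵁ X.basicOpen a := show (ptIdeal hP).subschemeι z ∈ X.basicOpen a from hz.symm ▸ hmem
    rw [h] at this
    exact this
  · intro h
    refine bot_unique fun z hz => h ?_
    have hz' : (ptIdeal hP).subschemeι z ∈ X.basicOpen a := hz
    rwa [show (ptIdeal hP).subschemeι z = P from hr.le ⟨z, rfl⟩] at hz'

variable (hδ : Curv2.deltaInv (X.presheaf.stalk P) = 1) (hd : ringKrullDim (X.presheaf.stalk P) = 1)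
  (e : Γ(X, off hP)) (he : e * e = e)

include hδ hd he in
theorem existsUnique_image {W : X.Opens} (m : Γ(ClSub.idealMod (ptIdeal hP), W)) :
    ∃! m' : Γ(ClSub.idealMod (ptIdeal hP), W),
      res (inf_le_left : W ⊓ off hP ≤ W) (io (ptIdeal hP) W m') =
        res (inf_le_right : W ⊓ off hP ≤ off hP) e * res inf_le_left (io (ptIdeal hP) W m) := by
  obtain ⟨g, hg, hge⟩ := exists_extension hP hδ hd e he (io (ptIdeal hP) W m)
    ((exists_io_eq_iff hP _).1 ⟨m, rfl⟩)
  obtain ⟨m', hm'⟩ := (exists_io_eq_iff hP g).2 hg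
  exact ⟨m', by simp only [hm']; exact hge, fun m'' hm'' => io_inj _ _ ((ext_off hP hδ hd (hm''.trans hge.symm)).trans hm'.symm)⟩

/-- The image of a section. -/
def img {W : X.Opens} (m : Γ(ClSub.idealMod (ptIdeal hP), W)) : Γ(ClSub.idealMod (ptIdeal hP), W) :=
  (existsUnique_image hP hδ hd e he m).choose

theorem img_spec {W : X.Opens} (m : Γ(ClSub.idealMod (ptIdeal hP), W)) :
    res (inf_le_left : W ⊓ off hP ≤ W) (io (ptIdeal hP) W (img hP hδ hd e he m)) =
      res (inf_le_right : W ⊓ off hP ≤ off hP) e * res inf_le_left (io (ptIdeal hP) W m) :=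
  (existsUnique_image hP hδ hd e he m).choose_spec.1

theorem img_unique {W : X.Opens} {m m' : Γ(ClSub.idealMod (ptIdeal hP), W)}
    (h : res (inf_le_left : W ⊓ off hP ≤ W) (io (ptIdeal hP) W m') =
      res (inf_le_right : W ⊓ off hP ≤ off hP) e * res inf_le_left (io (ptIdeal hP) W m)) :
    img hP hδ hd e he m = m' :=
  ((existsUnique_image hP hδ hd e he m).choose_spec.2 m' h).symm

theorem io_add {W : X.Opens} (a b : Γ(ClSub.idealMod (ptIdeal hP), W)) :
    io (ptIdeal hP) W (a + b) = io (ptIdeal hP) W a + io (ptIdeal hP) W b :=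
  map_add ((ClSub.idealModι (ptIdeal hP)).app W).hom a b

theorem img_add {W : X.Opens} (a b : Γ(ClSub.idealMod (ptIdeal hP), W)) :
    img hP hδ hd e he (a + b) = img hP hδ hd e he a + img hP hδ hd e he b := by
  refine img_unique hP hδ hd e he ?_
  rw [io_add, io_add, res_add, res_add, img_spec, img_spec, mul_add]

theorem img_smul {W : X.Opens} (r : Γ(X, W)) (a : Γ(ClSub.idealMod (ptIdeal hP), W)) :
    img hP hδ hd e he (r • a) = r • img hP hδ hd e he a := by
  refine img_unique hP hδ hd e he ?_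
  rw [io_smul, io_smul, res_mul, res_mul, img_spec, mul_left_comm]

theorem img_rs {V W : X.Opens} (h : V ≤ W) (a : Γ(ClSub.idealMod (ptIdeal hP), W)) :
    img hP hδ hd e he (rs _ h a) = rs _ h (img hP hδ hd e he a) := by
  refine img_unique hP hδ hd e he ?_
  rw [io_rs, io_rs]
  have h1 := congrArg (res (inf_le_inf_right (off hP) h)) (img_spec hP hδ hd e he a)
  change res _ (res h (io _ W (img hP hδ hd e he a))) = _ * res _ (res h (io _ W a))
  simp only [res_mul, res_res] at h1 ⊢
  exact h1

/-- The endomorphism of the ideal. -/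
def endo : ClSub.idealMod (ptIdeal hP) ⟶ ClSub.idealMod (ptIdeal hP) :=
  ⟨PresheafOfModules.homMk
    { app := fun W => AddCommGrpCat.ofHom
        (AddMonoidHom.mk' (fun m : Γ(ClSub.idealMod (ptIdeal hP), W.unop) => img hP hδ hd e he m) (img_add hP hδ hd e he))
      naturality := fun W W' f => by
        ext m
        exact img_rs hP hδ hd e he f.unop.le m }
    (fun W r m => img_smul hP hδ hd e he r m)⟩

theorem endo_app {W : X.Opens} (m : Γ(ClSub.idealMod (ptIdeal hP), W)) :
    (endo hP hδ hd e he).app W m = img hP hδ hd e he m := rfl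

theorem endo_comp_self : endo hP hδ hd e he ≫ endo hP hδ hd e he = endo hP hδ hd e he := by
  ext W m
  show img hP hδ hd e he (img hP hδ hd e he m) = img hP hδ hd e he m
  refine img_unique hP hδ hd e he ?_
  rw [img_spec, ← mul_assoc, ← res_mul, he]

/-- On an open avoiding `P` the endomorphism is multiplication by `e`. -/
theorem io_endo_off {W : X.Opens} (h : W ≤ off hP) (m : Γ(ClSub.idealMod (ptIdeal hP), W)) :
    io (ptIdeal hP) W ((endo hP hδ hd e he).app W m) = res h e * io (ptIdeal hP) W m := by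
  refine ext_off hP hδ hd ?_
  rw [endo_app, img_spec, res_mul, res_res]

include hδ hd in
/-- The statement. -/
theorem exists_idempotent_endo (hsep : ¬ _root_.IsPreconnected (({P} : Set X)ᶜ)) :
    ∃ φ : ClSub.idealMod (ptIdeal hP) ⟶ ClSub.idealMod (ptIdeal hP), φ ≫ φ = φ ∧ φ ≠ 0 ∧ φ ≠ 𝟙 _ := by
  simp only [_root_.IsPreconnected, not_forall, Set.not_nonempty_iff_eq_empty] at hsep
  obtain ⟨u, v, hu, hv, huv, ⟨a, ha⟩, ⟨b, hb⟩, hdisj⟩ := hsep
  let A : X.Opens := off hP ⊓ ⟨u, hu⟩
  let B : X.Opens := off hP ⊓ ⟨v, hv⟩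
  have hAB : A ⊓ B = ⊥ := bot_unique fun z hz =>
    (Set.eq_empty_iff_forall_notMem.1 hdisj z ⟨hz.1.1, hz.1.2, hz.2.2⟩).elim
  haveI : Subsingleton Γ(X, A ⊓ B) := by rw [hAB]; infer_instance
  haveI : Subsingleton Γ(X, B ⊓ A) := by rw [inf_comm, hAB]; infer_instance
  obtain ⟨e, he, -⟩ := TopCat.Sheaf.existsUnique_gluing' X.sheaf (fun i : Bool => if i then A else B) (off hP)
    (fun i => homOfLE (by cases i <;> exact inf_le_left))
    (fun z hz => Opens.mem_iSup.2 ((huv hz).elim (fun h => ⟨true, hz, h⟩) fun h => ⟨false, hz, h⟩))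
    (fun i => match i with
      | true => (1 : Γ(X, A))
      | false => (0 : Γ(X, B)))
    (by rintro (_ | _) (_ | _) <;> first | rfl | exact Subsingleton.elim (α := Γ(X, B ⊓ A)) _ _ | exact Subsingleton.elim (α := Γ(X, A ⊓ B)) _ _)
  have heA : res (inf_le_left : A ≤ off hP) e = 1 := he true
  have heB : res (inf_le_left : B ≤ off hP) e = 0 := he false
  have hee : e * e = e := by
    refine X.sheaf.eq_of_locally_eq' (fun i : Bool => if i then A else B) (off hP)
      (fun i => homOfLE (by cases i <;> exact inf_le_left))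
      (fun z hz => Opens.mem_iSup.2 ((huv hz).elim (fun h => ⟨true, hz, h⟩) fun h => ⟨false, hz, h⟩))
      _ _ ?_
    rintro (_ | _)
    · show res (inf_le_left : B ≤ off hP) (e * e) = res (inf_le_left : B ≤ off hP) e
      rw [res_mul, heB, zero_mul]
    · show res (inf_le_left : A ≤ off hP) (e * e) = res (inf_le_left : A ≤ off hP) e
      rw [res_mul, heA, one_mul]
  refine ⟨endo hP hδ hd e hee, endo_comp_self hP hδ hd e hee, fun h0 => ?_, fun h1 => ?_⟩
  · obtain ⟨m, hm⟩ := (exists_io_eq_iff hP (1 : Γ(X, A))).2 fun h => (X.basicOpen_le _ h).1 rfl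
    have h := io_endo_off hP hδ hd e hee inf_le_left m
    rw [h0, heA, one_mul, hm] at h
    haveI : Nonempty (A : X.Opens) := ⟨⟨a, ha.1, ha.2⟩⟩
    exact zero_ne_one (α := Γ(X, A)) ((map_zero ((ClSub.idealModι (ptIdeal hP)).app A).hom).symm.trans h)
  · obtain ⟨m, hm⟩ := (exists_io_eq_iff hP (1 : Γ(X, B))).2 fun h => (X.basicOpen_le _ h).1 rfl
    have h := io_endo_off hP hδ hd e hee inf_le_left m
    rw [h1, heB, zero_mul] at h
    haveI : Nonempty (B : X.Opens) := ⟨⟨b, hb.1, hb.2⟩⟩
    exact zero_ne_one (h.symm.trans hm)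

end Groth.L05.SepNode
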